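import Groth.Agent.LocCoh.K164.EvZero
import Groth.Agent.FormalA.AdicFin
import Groth.Agent.DRing.K230.DCMore
import Groth.Agent.DRing.K230.DCLink
import Mathlib.RingTheory.Filtration

/-!
# `H^0` of the derived `I`-adic completion of `RΓ_J(M)`

* `mem_iff`: `s ∈ M` is `J`-power torsion modulo all `I ^ n M` iff it is `J'`-power torsion for some `J' ≤ J` with
  `J ≤ √(J' + I)` (`M` finite over `A` Noetherian);
* `hat_eq_zero`, `exists_hat`: `H^0(RΓ_J(M)^) = lim Γ_J(M / I ^ n M)`.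
-/

set_option autoImplicit false
universe u

open CategoryTheory Limits Opposite Pretriangulated

attribute [local instance] HasDerivedCategory.standard

namespace K227.GamHat

open Groth.Agent Groth.Agent.LoccohB Groth.Agent.S1814 Groth.Agent.LoccohB.RlimComp
  Groth.Agent.LoccohB.ProZ Groth.Agent.LoccohB.RGammaTors K164.HatRefl K164.EvZero
  Groth.Agent.Localalg.Gam K164

section Alg

variable {A : Type u} [CommRing A] [IsNoetherianRing A] (I J : Ideal A)
  {M : Type u} [AddCommGroup M] [Module A M] [Module.Finite A M]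

theorem exists_ideal_of_forall (s : M)
    (h : ∀ n : ℕ, (Submodule.Quotient.mk s : M ⧸ (I ^ n • ⊤ : Submodule A M)) ∈
      gam J (M ⧸ (I ^ n • ⊤ : Submodule A M))) :
    ∃ J' : Ideal A, J' ≤ J ∧ J ≤ (J' ⊔ I).radical ∧ s ∈ DRing.torsionSub J' M := by
  obtain ⟨k, hk⟩ := Ideal.exists_pow_inf_eq_pow_smul I (Submodule.span A {s})
  obtain ⟨m, hm⟩ := h (k + 1)
  have key : ∀ a ∈ J ^ m, ∃ b ∈ I, (a - b) • s = 0 := by
    intro a ha
    have h1 : a • s ∈ (I ^ (k + 1) • ⊤ : Submodule A M) := by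
      rw [← Submodule.Quotient.mk_eq_zero, Submodule.Quotient.mk_smul]
      exact hm a ha
    have h2 : a • s ∈ (I ^ (k + 1) • ⊤ : Submodule A M) ⊓ Submodule.span A {s} :=
      ⟨h1, Submodule.smul_mem _ _ (Submodule.mem_span_singleton_self s)⟩
    rw [hk (k + 1) (Nat.le_succ k), Nat.add_sub_cancel_left, pow_one] at h2
    have h3 : a • s ∈ I • Submodule.span A {s} := Submodule.smul_mono le_rfl inf_le_right h2
    obtain ⟨b, hb, hb'⟩ := Submodule.mem_smul_span_singleton.1 h3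
    exact ⟨b, hb, by rw [sub_smul, hb', sub_self]⟩
  refine ⟨J ⊓ Submodule.annihilator (Submodule.span A {s}), inf_le_left, fun x hx => ?_, 1, fun a ha => ?_⟩
  · obtain ⟨b, hb, hb'⟩ := key _ (Ideal.pow_mem_pow hx m)
    refine ⟨m + 1, ?_⟩
    have h1 : x * (x ^ m - b) ∈ J ⊓ Submodule.annihilator (Submodule.span A {s}) := by
      refine ⟨Ideal.mul_mem_right _ _ hx, (Submodule.mem_annihilator_span_singleton s _).2 ?_⟩
      rw [mul_smul, hb', smul_zero]
    have h2 : x ^ (m + 1) = x * (x ^ m - b) + x * b := by ring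
    rw [h2]
    exact Submodule.add_mem_sup h1 (Ideal.mul_mem_left _ _ hb)
  · rw [pow_one] at ha
    exact (Submodule.mem_annihilator_span_singleton s a).1 ha.2

omit [Module.Finite A M] in
theorem forall_of_exists_ideal (s : M)
    (h : ∃ J' : Ideal A, J' ≤ J ∧ J ≤ (J' ⊔ I).radical ∧ s ∈ DRing.torsionSub J' M) (n : ℕ) :
    (Submodule.Quotient.mk s : M ⧸ (I ^ n • ⊤ : Submodule A M)) ∈
      gam J (M ⧸ (I ^ n • ⊤ : Submodule A M)) := by
  obtain ⟨J', -, h2, k, hk⟩ := h
  obtain ⟨m, hm⟩ := Ideal.exists_pow_le_of_le_radical_of_fg h2 (IsNoetherian.noetherian J)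
  refine ⟨m * (k + n), fun a ha => ?_⟩
  have h3 : a ∈ J' ^ k ⊔ I ^ n := by
    apply Ideal.sup_pow_add_le_pow_sup_pow
    rw [pow_mul] at ha
    exact Ideal.pow_right_mono hm _ ha
  obtain ⟨b, hb, c, hc, rfl⟩ := Submodule.mem_sup.1 h3
  rw [← Submodule.Quotient.mk_smul, Submodule.Quotient.mk_eq_zero, add_smul, hk b hb, zero_add]
  exact Submodule.smul_mem_smul hc trivial

end Alg

section Main

variable {A : Type u} [CommRing A] [IsNoetherianRing A] (I J : Ideal A) [DRing.HasRgammaI J]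
  [DRing.HasDerivedCompletion I] (M : Type u) [AddCommGroup M] [Module A M] [Module.Finite A M]

/-- the morphism induced on derived completions -/
noncomputable abbrev hatε : ((DRing.derivedCompletion I).obj ((DRing.RgammaI J).obj (Dual.inD A M))).obj ⟶
    ((DRing.derivedCompletion I).obj (Dual.inD A M)).obj :=
  (ObjectProperty.ι (DRing.IsDerivedComplete I)).map
    ((DRing.derivedCompletion I).map ((DRing.RgammaIε J).app (Dual.inD A M)))

omit [IsNoetherianRing A] [Module.Finite A M] in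
lemma unit_hatε : DRing.toDerivedCompletion I ((DRing.RgammaI J).obj (Dual.inD A M)) ≫ hatε I J M =
    (DRing.RgammaIε J).app (Dual.inD A M) ≫ DRing.toDerivedCompletion I (Dual.inD A M) :=
  ((DRing.derivedCompletionAdj I).unit.naturality ((DRing.RgammaIε J).app (Dual.inD A M))).symm

omit [IsNoetherianRing A] [DRing.HasRgammaI J] [DRing.HasDerivedCompletion I] [Module.Finite A M] in
lemma dcomplete (N : Type u) [AddCommGroup N] [Module A N] [IsAdicComplete I N] :
    DRing.IsDerivedComplete I (Dual.inD A N) := by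
  rw [K230.DCLink.isDerivedComplete_inD_iff]
  exact fun f hf => K230.DCMore.dc_of_isAdicComplete hf

variable [IsAdicComplete I A]

/-- `M^ ⟶ M / I ^ n M` -/
lemma exists_p (n : ℕ) : ∃ p : ((DRing.derivedCompletion I).obj (Dual.inD A M)).obj ⟶
    (DerivedCategory.singleFunctor (ModuleCat.{u} A) 0).obj ((quotM I M).obj (op n)),
    DRing.toDerivedCompletion I (Dual.inD A M) ≫ p =
      (DerivedCategory.singleFunctor (ModuleCat.{u} A) 0).map (qM I M n) := by
  have : IsAdicComplete I (M ⧸ (I ^ n • ⊤ : Submodule A M)) := FormalA.AdicFin.isAdicComplete_of_finite I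
  exact (exists_refl I (Dual.inD A M)).exists_desc _ (dcomplete I (M ⧸ (I ^ n • ⊤ : Submodule A M))) _

lemma isIso_unit : IsIso (DRing.toDerivedCompletion I (Dual.inD A M)) := by
  have : IsAdicComplete I M := FormalA.AdicFin.isAdicComplete_of_finite I
  have h := exists_refl I (Dual.inD A M)
  obtain ⟨b, hb⟩ := h.exists_desc _ (dcomplete I M) (𝟙 _)
  refine ⟨b, hb, ?_⟩
  apply h.ext _ h.mem
  rw [← Category.assoc, hb, Category.id_comp, Category.comp_id]

/-- the data: `RΓ_J(M)^ = R lim RΓ_J(M / I ^ n M)`, compatibly with the maps to `M / I ^ n M` -/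
lemma exists_data [HasProduct (KM I J M)] :
    ∃ (N : Dual.D A) (α : N ⟶ ∏ᶜ (KM I J M)) (γ : ∏ᶜ (KM I J M) ⟶ N⟦(1 : ℤ)⟧)
      (e : ((DRing.derivedCompletion I).obj ((DRing.RgammaI J).obj (Dual.inD A M))).obj ≅ N)
      (p : ∀ n : ℕ, ((DRing.derivedCompletion I).obj (Dual.inD A M)).obj ⟶
        (DerivedCategory.singleFunctor (ModuleCat.{u} A) 0).obj ((quotM I M).obj (op n))),
      Triangle.mk α (δM I J M) γ ∈ distTriang (Dual.D A) ∧
      (∀ n, DRing.toDerivedCompletion I (Dual.inD A M) ≫ p n =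
        (DerivedCategory.singleFunctor (ModuleCat.{u} A) 0).map (qM I M n)) ∧
      ∀ n, hatε I J M ≫ p n = e.hom ≫ α ≫ Pi.π (KM I J M) n ≫
        (DRing.RgammaIε J).app (Dual.inD A (M ⧸ (I ^ n • ⊤ : Submodule A M))) := by
  obtain ⟨N, α, γ, φ, hT, hφ, hr⟩ := exists_rlim_refl I J M
  have hη := exists_refl I ((DRing.RgammaI J).obj (Dual.inD A M))
  obtain ⟨a, ha⟩ := hη.exists_desc N hr.mem φ
  obtain ⟨b, hb⟩ := hr.exists_desc _ hη.mem
    (DRing.toDerivedCompletion I ((DRing.RgammaI J).obj (Dual.inD A M)))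
  let e : ((DRing.derivedCompletion I).obj ((DRing.RgammaI J).obj (Dual.inD A M))).obj ≅ N :=
    { hom := a
      inv := b
      hom_inv_id := by
        apply hη.ext _ hη.mem
        rw [← Category.assoc, ha, hb, Category.comp_id]
      inv_hom_id := by
        apply hr.ext _ hr.mem
        rw [← Category.assoc, hb, ha, Category.comp_id] }
  choose p hp using exists_p I M
  refine ⟨N, α, γ, e, p, hT, hp, fun n => ?_⟩
  have : IsAdicComplete I (M ⧸ (I ^ n • ⊤ : Submodule A M)) := FormalA.AdicFin.isAdicComplete_of_finite I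
  have h0 : DRing.toDerivedCompletion I ((DRing.RgammaI J).obj (Dual.inD A M)) ≫ hatε I J M ≫ p n =
      (DRing.RgammaIε J).app (Dual.inD A M) ≫
        (DerivedCategory.singleFunctor (ModuleCat.{u} A) 0).map (qM I M n) := by
    rw [← Category.assoc, unit_hatε, Category.assoc, hp]
  apply hη.ext _ (dcomplete I (M ⧸ (I ^ n • ⊤ : Submodule A M)))
  refine h0.trans ?_
  have h1 : DRing.toDerivedCompletion I ((DRing.RgammaI J).obj (Dual.inD A M)) ≫ e.hom = φ := ha
  have h2 : φ ≫ α ≫ Pi.π (KM I J M) n = (DRing.RgammaI J).map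
    ((DerivedCategory.singleFunctor (ModuleCat.{u} A) 0).map (qM I M n)) := hφ n
  rw [← Category.assoc, h1, ← Category.assoc α, ← Category.assoc φ, h2]
  exact ((DRing.RgammaIε J).naturality
    ((DerivedCategory.singleFunctor (ModuleCat.{u} A) 0).map (qM I M n))).symm

theorem main :
    (∀ y : Dual.inD A A ⟶ (((DRing.derivedCompletion I).obj
        ((DRing.RgammaI J).obj (Dual.inD A M))).obj)⟦z0⟧, y ≫ (hatε I J M)⟦z0⟧' = 0 → y = 0) ∧
    (∀ y : Dual.inD A A ⟶ (((DRing.derivedCompletion I).obj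
        ((DRing.RgammaI J).obj (Dual.inD A M))).obj)⟦z0⟧, ∃ s : M,
        (∀ n : ℕ, (Submodule.Quotient.mk s : M ⧸ (I ^ n • ⊤ : Submodule A M)) ∈
          gam J (M ⧸ (I ^ n • ⊤ : Submodule A M))) ∧
        y ≫ (hatε I J M)⟦z0⟧' =
          (evM (ModuleCat.of A M)).symm s ≫ (DRing.toDerivedCompletion I (Dual.inD A M))⟦z0⟧') ∧
    (∀ s : M, (∀ n : ℕ, (Submodule.Quotient.mk s : M ⧸ (I ^ n • ⊤ : Submodule A M)) ∈
          gam J (M ⧸ (I ^ n • ⊤ : Submodule A M))) →
        ∃ y : Dual.inD A A ⟶ (((DRing.derivedCompletion I).obj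
        ((DRing.RgammaI J).obj (Dual.inD A M))).obj)⟦z0⟧, y ≫ (hatε I J M)⟦z0⟧' =
          (evM (ModuleCat.of A M)).symm s ≫ (DRing.toDerivedCompletion I (Dual.inD A M))⟦z0⟧') := by
  have hprod := hasProduct_KM I J M
  obtain ⟨N, α, γ, e, p, hT, hp, hc⟩ := exists_data I J M
  -- shifted compatibility
  have hc' : ∀ (n : ℕ) (y : Dual.inD A A ⟶ (((DRing.derivedCompletion I).obj
        ((DRing.RgammaI J).obj (Dual.inD A M))).obj)⟦z0⟧),
      ev J ((quotM I M).obj (op n)) (((y ≫ e.hom⟦z0⟧') ≫ α⟦z0⟧') ≫ (Pi.π (KM I J M) n)⟦z0⟧') =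
        evM ((quotM I M).obj (op n)) ((y ≫ (hatε I J M)⟦z0⟧') ≫ (p n)⟦z0⟧') := by
    intro n y
    have h0 := congrArg (fun f => f⟦z0⟧') (hc n)
    rw [Functor.map_comp] at h0
    rw [ev_apply]
    congr 1
    simp only [Category.assoc]
    congr 1
    refine Eq.trans ?_ h0.symm
    refine Eq.trans ?_ ((shiftFunctor (Dual.D A) z0).map_comp _ _).symm
    congr 1
    refine Eq.trans ?_ ((shiftFunctor (Dual.D A) z0).map_comp _ _).symm
    congr 1
    exact ((shiftFunctor (Dual.D A) z0).map_comp (Pi.π (KM I J M) n)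
      ((DRing.RgammaIε J).app (Dual.inD A (M ⧸ (I ^ n • ⊤ : Submodule A M))))).symm
  have hu : ∀ (n : ℕ) (s : M), evM ((quotM I M).obj (op n)) (((evM (ModuleCat.of A M)).symm s ≫
      (DRing.toDerivedCompletion I (Dual.inD A M))⟦z0⟧') ≫ (p n)⟦z0⟧') =
      (Submodule.Quotient.mk s : M ⧸ (I ^ n • ⊤ : Submodule A M)) := by
    intro n s
    rw [Category.assoc, ← Functor.map_comp, hp n, evM_map (qM I M n), LinearEquiv.apply_symm_apply]
    rfl
  have hiso := isIso_unit I M
  have hex : ∀ z : Dual.inD A A ⟶ (((DRing.derivedCompletion I).obj (Dual.inD A M)).obj)⟦z0⟧,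
      ∃ s : M, z = (evM (ModuleCat.of A M)).symm s ≫
        (DRing.toDerivedCompletion I (Dual.inD A M))⟦z0⟧' := by
    intro z
    refine ⟨evM (ModuleCat.of A M) (z ≫ (inv (DRing.toDerivedCompletion I (Dual.inD A M)))⟦z0⟧'), ?_⟩
    rw [LinearEquiv.symm_apply_apply, Category.assoc, ← Functor.map_comp, IsIso.inv_hom_id]
    simp
  have hM : IsAdicComplete I M := FormalA.AdicFin.isAdicComplete_of_finite I
  refine ⟨fun y hy => ?_, fun y => ?_, fun s hs => ?_⟩
  · have h1 : ∀ n, ((y ≫ e.hom⟦z0⟧') ≫ α⟦z0⟧') ≫ (Pi.π (KM I J M) n)⟦z0⟧' = 0 := by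
      intro n
      apply ev_injective J ((quotM I M).obj (op n))
      rw [hc' n y, hy, zero_comp, map_zero, map_zero]
    have h2 : (y ≫ e.hom⟦z0⟧') ≫ α⟦z0⟧' = 0 := by
      apply prod_ext
      intro n
      rw [h1 n, zero_comp]
    obtain ⟨z, hz⟩ := les₁ hT (Dual.inD A A) (-1) z0 (by simp) _ h2
    have h3 : z = 0 := by
      apply prod_ext
      intro n
      rw [zero_comp]
      exact RlimComp.hom_eq_zero J (M ⧸ (I ^ n • ⊤ : Submodule A M)) (-1) (by omega) _
    rw [h3, zero_comp] at hz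
    rw [← cancel_mono (e.hom⟦z0⟧'), ← hz, zero_comp]
  · obtain ⟨s, hs⟩ := hex (y ≫ (hatε I J M)⟦z0⟧')
    refine ⟨s, fun n => ?_, hs⟩
    rw [← hu n s, ← hs, ← hc' n y]
    exact ev_mem J _ _
  · choose x hx using fun n : ℕ => exists_ev J ((quotM I M).obj (op n)) (Submodule.Quotient.mk s) (hs n)
    obtain ⟨X, hX⟩ := prod_lift (KM I J M) z0 x
    have h1 : X ≫ (δM I J M)⟦z0⟧' = 0 := by
      apply prod_ext
      intro n
      rw [zero_comp, Category.assoc, ← Functor.map_comp, Limits.Pi.lift_π, Functor.map_sub,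
        Preadditive.comp_sub, Functor.map_comp, ← Category.assoc, hX, hX, sub_eq_zero]
      apply ev_injective J ((quotM I M).obj (op n))
      rw [hx n]
      refine Eq.trans ?_ (ev_map J ((quotM I M).map (homOfLE n.le_succ).op) (x (n + 1))).symm
      rw [hx (n + 1)]
      rfl
    obtain ⟨y', hy'⟩ := les₂ hT (Dual.inD A A) z0 X h1
    refine ⟨y' ≫ e.inv⟦z0⟧', ?_⟩
    obtain ⟨t, ht⟩ := hex ((y' ≫ e.inv⟦z0⟧') ≫ (hatε I J M)⟦z0⟧')
    rw [ht]
    congr 2
    have h2 : ∀ n : ℕ, (Submodule.Quotient.mk t : M ⧸ (I ^ n • ⊤ : Submodule A M)) =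
        Submodule.Quotient.mk s := by
      intro n
      rw [← hu n t, ← ht, ← hc' n]
      have h3 : ((y' ≫ e.inv⟦z0⟧') ≫ e.hom⟦z0⟧') ≫ α⟦z0⟧' = X := by
        rw [← hy', Category.assoc y', ← Functor.map_comp, e.inv_hom_id,
          CategoryTheory.Functor.map_id, Category.comp_id]
      rw [h3, hX n, hx n]
    rw [← sub_eq_zero]
    refine IsHausdorff.haus (I := I) inferInstance _ fun n => ?_
    rw [SModEq.zero, ← Submodule.Quotient.mk_eq_zero, Submodule.Quotient.mk_sub, h2 n, sub_self]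

end Main

end K227.GamHat
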